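import Mathlib

set_option autoImplicit false

/-!
# S3206, piece (D): a group whose Sylow 2-subgroup `S` is elementary abelian of order 8 with
`N_G(S)` transitive on `S ∖ {1}` has no perfect central extension by a nontrivial 2-group
-/

namespace Cfsg.Agent.JR3206

open Subgroup

section Sixteen

variable {P : Type*} [Group P] [Finite P]

/-- in a group where commutators lie in the central subgroup `{1, z}`, the centraliser of a
non-central element has index two. -/
theorem h9_index_centralizer (z : P) (hzz : z * z = 1) (hzc : ∀ x, z * x = x * z)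
    (hcomm : ∀ x y : P, x * y = y * x ∨ x * y = z * (y * x))
    (a : P) (y₀ : P) (hy₀ : a * y₀ ≠ y₀ * a) :
    (Subgroup.centralizer ({a} : Set P)).index = 2 := by
  rw [Subgroup.index_eq_two_iff]
  refine ⟨y₀, fun y => ?_⟩
  have hmem : ∀ w : P, w ∈ Subgroup.centralizer ({a} : Set P) ↔ a * w = w * a := by
    intro w
    rw [Subgroup.mem_centralizer_iff]
    constructor
    · intro h; exact h a rfl
    · intro h x hx; rw [Set.mem_singleton_iff.mp hx]; exact h
  rw [hmem, hmem]
  have h0 : a * y₀ = z * (y₀ * a) := (hcomm a y₀).resolve_left hy₀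
  by_cases hy : a * y = y * a
  · refine Or.inr ⟨hy, ?_⟩
    intro h
    apply hy₀
    have : a * y₀ = y⁻¹ * (a * (y * y₀)) := by
      rw [← mul_assoc a y y₀, hy]; group
    rw [this, h]; group
  · refine Or.inl ⟨?_, hy⟩
    have h1 : a * y = z * (y * a) := (hcomm a y).resolve_left hy
    calc a * (y * y₀) = (a * y) * y₀ := by group
      _ = z * (y * a) * y₀ := by rw [h1]
      _ = z * y * (a * y₀) := by group
      _ = z * y * (z * (y₀ * a)) := by rw [h0]
      _ = y * (z * z) * (y₀ * a) := by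
          rw [show z * y = y * z from hzc y]; group
      _ = y * y₀ * a := by rw [hzz]; group

/-- a group of order 16 in which squares and commutators lie in a central subgroup `{1, z}` of
order two has a central element outside `{1, z}`. -/
theorem h9_center16 (hP : Nat.card P = 16) (z : P) (hz1 : z ≠ 1) (hzz : z * z = 1)
    (hzc : ∀ x, z * x = x * z)
    (hcomm : ∀ x y : P, x * y = y * x ∨ x * y = z * (y * x))
    (hsq : ∀ x : P, x * x = 1 ∨ x * x = z) :
    ∃ c : P, c ≠ 1 ∧ c ≠ z ∧ ∀ x, c * x = x * c := by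
  classical
  by_contra hno
  push Not at hno
  haveI : Fintype P := Fintype.ofFinite P
  have hPc : Fintype.card P = 16 := by rw [← Nat.card_eq_fintype_card]; exact hP
  have hmem : ∀ a w : P, w ∈ Subgroup.centralizer ({a} : Set P) ↔ a * w = w * a := by
    intro a w
    rw [Subgroup.mem_centralizer_iff]
    constructor
    · intro h; exact h a rfl
    · intro h x hx; rw [Set.mem_singleton_iff.mp hx]; exact h
  -- centralisers of elements outside {1,z} have order 8
  have hC8 : ∀ a : P, a ≠ 1 → a ≠ z → Nat.card ↥(Subgroup.centralizer ({a} : Set P)) = 8 := by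
    intro a ha1 haz
    obtain ⟨y₀, hy₀⟩ := hno a ha1 haz
    have hidx := h9_index_centralizer z hzz hzc hcomm a y₀ hy₀
    have := (Subgroup.centralizer ({a} : Set P)).index_mul_card
    rw [hidx, hP] at this
    omega
  -- choose a
  obtain ⟨a, ha⟩ : ∃ a : P, a ∉ ({1, z} : Finset P) := by
    by_contra h
    push Not at h
    have : Fintype.card P ≤ ({1, z} : Finset P).card := by
      rw [← Finset.card_univ]
      exact Finset.card_le_card (fun x _ => h x)
    have h2 : ({1, z} : Finset P).card ≤ 2 := Finset.card_le_two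
    omega
  have ha1 : a ≠ 1 := fun h => ha (by rw [h]; simp)
  have haz : a ≠ z := fun h => ha (by rw [h]; simp)
  have hCa := hC8 a ha1 haz
  -- choose b in C(a) outside {1, z, a, az}
  obtain ⟨b, hbC, hb⟩ : ∃ b ∈ (Subgroup.centralizer ({a} : Set P) : Set P),
      b ∉ ((({1, z, a, a * z} : Finset P)) : Set P) := by
    apply Set.exists_mem_notMem_of_ncard_lt_ncard _ (Set.toFinite _)
    rw [Set.ncard_coe_finset]
    have h4 : ({1, z, a, a * z} : Finset P).card ≤ 4 := Finset.card_le_four
    have h8 : ((Subgroup.centralizer ({a} : Set P) : Set P)).ncard = 8 := by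
      rw [← hCa]; exact (Nat.card_coe_set_eq _).symm
    omega
  have hb' : b ≠ 1 ∧ b ≠ z ∧ b ≠ a ∧ b ≠ a * z := by
    simp only [Finset.coe_insert, Finset.coe_singleton, Set.mem_insert_iff,
      Set.mem_singleton_iff, not_or] at hb
    exact hb
  obtain ⟨hb1, hbz, hba, hbaz⟩ := hb'
  have hab : a * b = b * a := (hmem a b).mp hbC
  have hCb := hC8 b hb1 hbz
  -- the intersection of the two centralisers has at least five elements
  set D : Subgroup P := Subgroup.centralizer ({a} : Set P) ⊓ Subgroup.centralizer ({b} : Set P)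
    with hD
  have hmemD : ∀ w : P, w ∈ D ↔ a * w = w * a ∧ b * w = w * b := by
    intro w
    rw [hD, Subgroup.mem_inf, hmem, hmem]
  have hz1' : z⁻¹ = z := inv_eq_of_mul_eq_one_left hzz
  have hl : ([b, a * z, a, z, 1] : List P).Nodup := by
    simp only [List.nodup_cons, List.mem_cons, List.not_mem_nil, or_false, not_or,
      List.nodup_nil, and_true, not_false_eq_true]
    refine ⟨⟨hbaz, hba, hbz, hb1⟩, ⟨?_, ?_, ?_⟩, ⟨haz, ha1⟩, hz1⟩
    · intro h
      apply hz1
      have : z = a⁻¹ * (a * z) := by group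
      rw [this, h]; group
    · intro h
      apply ha1
      have : a = (a * z) * z⁻¹ := by group
      rw [this, h]; group
    · intro h
      apply haz
      have : a = (a * z) * z⁻¹ := by group
      rw [this, h, hz1', one_mul]
  have hT : ([b, a * z, a, z, 1] : List P).toFinset.card = 5 := by
    rw [List.toFinset_card_of_nodup hl]; rfl
  have hTD : (([b, a * z, a, z, 1] : List P).toFinset : Set P) ⊆ (D : Set P) := by
    intro w hw
    simp only [List.coe_toFinset, List.mem_cons, List.not_mem_nil, or_false,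
      Set.mem_ofPred_eq] at hw
    rw [SetLike.mem_coe, hmemD]
    rcases hw with rfl | rfl | rfl | rfl | rfl
    · exact ⟨hab, rfl⟩
    · refine ⟨?_, ?_⟩
      · rw [mul_assoc a z a, hzc a]
      · rw [← mul_assoc, ← hab, mul_assoc a b z, ← hzc b, mul_assoc]
    · exact ⟨rfl, hab.symm⟩
    · exact ⟨(hzc a).symm, (hzc b).symm⟩
    · simp
  have hD5 : 5 ≤ Nat.card ↥D := by
    have h1 : (([b, a * z, a, z, 1] : List P).toFinset : Set P).ncard ≤ (D : Set P).ncard :=
      Set.ncard_le_ncard hTD (Set.toFinite _)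
    rw [Set.ncard_coe_finset, hT] at h1
    exact h1.trans (Nat.card_coe_set_eq (D : Set P)).symm.le
  have hDa : Nat.card ↥D ∣ 8 := by
    rw [← hCa]; exact Subgroup.card_dvd_of_le inf_le_left
  have hD8 : Nat.card ↥D = 8 := by
    have h8' : (8 : ℕ) = 2 ^ 3 := by norm_num
    rw [h8'] at hDa
    obtain ⟨k, hk, hk'⟩ := (Nat.dvd_prime_pow Nat.prime_two).mp hDa
    rw [hk'] at hD5 ⊢
    interval_cases k <;> omega
  have hDCa : D = Subgroup.centralizer ({a} : Set P) :=
    Subgroup.eq_of_le_of_card_ge inf_le_left (by rw [hCa, hD8])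
  have hDCb : D = Subgroup.centralizer ({b} : Set P) :=
    Subgroup.eq_of_le_of_card_ge inf_le_right (by rw [hCb, hD8])
  have hiff : ∀ y : P, a * y = y * a ↔ b * y = y * b := by
    intro y
    rw [← hmem a y, ← hmem b y, ← hDCa, ← hDCb]
  -- the product ab is central
  have hcen : ∀ y : P, (a * b) * y = y * (a * b) := by
    intro y
    by_cases hy : a * y = y * a
    · have hy' := (hiff y).mp hy
      rw [mul_assoc, hy', ← mul_assoc, hy, mul_assoc]
    · have hy' : ¬ b * y = y * b := fun h => hy ((hiff y).mpr h)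
      have h1 : a * y = z * (y * a) := (hcomm a y).resolve_left hy
      have h2 : b * y = z * (y * b) := (hcomm b y).resolve_left hy'
      calc a * b * y = a * (b * y) := by group
        _ = a * (z * (y * b)) := by rw [h2]
        _ = z * (a * y) * b := by rw [← mul_assoc a z, ← hzc a]; group
        _ = z * (z * (y * a)) * b := by rw [h1]
        _ = (z * z) * (y * (a * b)) := by group
        _ = y * (a * b) := by rw [hzz, one_mul]
  -- and lies outside {1, z}
  have hainv : a⁻¹ = a ∨ a⁻¹ = a * z := by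
    rcases hsq a with h | h
    · left; exact inv_eq_of_mul_eq_one_left h
    · right
      apply inv_eq_of_mul_eq_one_left
      rw [mul_assoc, hzc a, ← mul_assoc, h, hzz]
  have hc1 : a * b ≠ 1 := by
    intro h
    have hb_eq : b = a⁻¹ := (inv_eq_of_mul_eq_one_right h).symm
    rcases hainv with h' | h'
    · exact hba (hb_eq.trans h')
    · exact hbaz (hb_eq.trans h')
  have hcz : a * b ≠ z := by
    intro h
    have hb_eq : b = a⁻¹ * z := by rw [← h]; group
    rcases hainv with h' | h'
    · rw [h'] at hb_eq; exact hbaz hb_eq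
    · rw [h', mul_assoc, hzz, mul_one] at hb_eq; exact hba hb_eq
  obtain ⟨x, hx⟩ := hno (a * b) hc1 hcz
  exact hx (hcen x)

/-- if moreover the group is not abelian, the centre is exactly `{1, z, c, cz}`. -/
theorem h9_center_struct (hP : Nat.card P = 16) (z : P) (hz1 : z ≠ 1) (hzz : z * z = 1)
    (hzc : ∀ x, z * x = x * z)
    (hcomm : ∀ x y : P, x * y = y * x ∨ x * y = z * (y * x))
    (hsq : ∀ x : P, x * x = 1 ∨ x * x = z) (hna : ∃ x y : P, x * y ≠ y * x) :
    ∃ c : P, c ≠ 1 ∧ c ≠ z ∧ (∀ x, c * x = x * c) ∧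
      ∀ c' : P, (∀ x, c' * x = x * c') → c' = 1 ∨ c' = z ∨ c' = c ∨ c' = c * z := by
  classical
  obtain ⟨c, hc1, hcz, hcc⟩ := h9_center16 hP z hz1 hzz hzc hcomm hsq
  refine ⟨c, hc1, hcz, hcc, ?_⟩
  intro c' hc'
  by_contra hne
  push Not at hne
  obtain ⟨h1, h2, h3, h4⟩ := hne
  obtain ⟨x, y, hxy⟩ := hna
  have hz1' : z⁻¹ = z := inv_eq_of_mul_eq_one_left hzz
  have hmc : ∀ w : P, w ∈ Subgroup.center P ↔ ∀ g, w * g = g * w := by
    intro w
    rw [Subgroup.mem_center_iff]
    constructor
    · intro h g; exact (h g).symm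
    · intro h g; exact (h g).symm
  have hl : ([c', c * z, c, z, 1] : List P).Nodup := by
    simp only [List.nodup_cons, List.mem_cons, List.not_mem_nil, or_false, not_or,
      List.nodup_nil, and_true, not_false_eq_true]
    refine ⟨⟨h4, h3, h2, h1⟩, ⟨?_, ?_, ?_⟩, ⟨hcz, hc1⟩, hz1⟩
    · intro h
      apply hz1
      have : z = c⁻¹ * (c * z) := by group
      rw [this, h]; group
    · intro h
      apply hc1
      have : c = (c * z) * z⁻¹ := by group
      rw [this, h]; group
    · intro h
      apply hcz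
      have : c = (c * z) * z⁻¹ := by group
      rw [this, h, hz1', one_mul]
  have hT : ([c', c * z, c, z, 1] : List P).toFinset.card = 5 := by
    rw [List.toFinset_card_of_nodup hl]; rfl
  have hTD : (([c', c * z, c, z, 1] : List P).toFinset : Set P) ⊆ (Subgroup.center P : Set P) := by
    intro w hw
    simp only [List.coe_toFinset, List.mem_cons, List.not_mem_nil, or_false,
      Set.mem_ofPred_eq] at hw
    rw [SetLike.mem_coe, hmc]
    rcases hw with rfl | rfl | rfl | rfl | rfl
    · exact hc'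
    · intro g
      rw [mul_assoc, hzc g, ← mul_assoc, hcc g, mul_assoc]
    · exact hcc
    · exact hzc
    · intro g; simp
  have h5 : 5 ≤ Nat.card ↥(Subgroup.center P) := by
    have h1 : (([c', c * z, c, z, 1] : List P).toFinset : Set P).ncard ≤
        (Subgroup.center P : Set P).ncard := Set.ncard_le_ncard hTD (Set.toFinite _)
    rw [Set.ncard_coe_finset, hT] at h1
    exact h1.trans (Nat.card_coe_set_eq (Subgroup.center P : Set P)).symm.le
  have hidx := (Subgroup.center P).index_mul_card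
  rw [hP] at hidx
  have hxc : x ∉ Subgroup.center P := fun h => hxy (((hmc x).mp h) y)
  have hyc : y ∉ Subgroup.center P := fun h => hxy (((hmc y).mp h) x).symm
  have hdvd : Nat.card ↥(Subgroup.center P) ∣ 16 := ⟨_, by rw [mul_comm] at hidx; exact hidx.symm⟩
  have hle : Nat.card ↥(Subgroup.center P) ≤ 16 := Nat.le_of_dvd (by norm_num) hdvd
  have hcases : Nat.card ↥(Subgroup.center P) = 8 ∨ Nat.card ↥(Subgroup.center P) = 16 := by
    have h16 : (16 : ℕ) = 2 ^ 4 := by norm_num
    rw [h16] at hdvd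
    obtain ⟨k, hk, hk'⟩ := (Nat.dvd_prime_pow Nat.prime_two).mp hdvd
    rw [hk'] at h5 ⊢
    interval_cases k <;> omega
  rcases hcases with h8 | h16
  · have hi2 : (Subgroup.center P).index = 2 := by rw [h8] at hidx; omega
    have hxi : x⁻¹ ∉ Subgroup.center P := fun h => hxc (by simpa using (Subgroup.center P).inv_mem h)
    have hmem : x⁻¹ * y ∈ Subgroup.center P := by
      rw [Subgroup.mul_mem_iff_of_index_two hi2]
      exact ⟨fun h => absurd h hxi, fun h => absurd h hyc⟩
    apply hxy
    have hw := (hmc _).mp hmem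
    have hy : y = x * (x⁻¹ * y) := by group
    calc x * y = x * (x * (x⁻¹ * y)) := by rw [← hy]
      _ = x * ((x⁻¹ * y) * x) := by rw [hw x]
      _ = (x * (x⁻¹ * y)) * x := by group
      _ = y * x := by rw [← hy]
  · have hi1 : (Subgroup.center P).index = 1 := by rw [h16] at hidx; omega
    rw [Subgroup.index_eq_one] at hi1
    exact hxc (hi1 ▸ Subgroup.mem_top x)

end Sixteen

section Cover

universe u

variable {G : Type u} [Group G] [Finite G]

/-- the case of a central kernel of order two. -/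
theorem h9_cover_two
    (h8 : ∀ S : Sylow 2 G, Nat.card (S : Subgroup G) = 8 ∧ ∀ s ∈ (S : Subgroup G), s * s = 1)
    (hfix : ∀ S : Sylow 2 G, ∀ s ∈ (S : Subgroup G),
      (∀ n ∈ Subgroup.normalizer ((S : Subgroup G) : Set G), n * s * n⁻¹ = s) → s = 1)
    (L : Type) [Group L] [Finite L] (π : L →* G) (hπ : Function.Surjective π)
    (hperf : commutator L = ⊤) (hKc : π.ker ≤ Subgroup.center L)
    (hK2 : Nat.card ↥π.ker = 2) : False := by
  haveI : Fact (Nat.Prime 2) := ⟨Nat.prime_two⟩
  obtain ⟨S⟩ : Nonempty (Sylow 2 G) := inferInstance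
  obtain ⟨hS8, hSexp⟩ := h8 S
  have hScomm : ∀ a ∈ (S : Subgroup G), ∀ b ∈ (S : Subgroup G), a * b = b * a := by
    intro a ha b hb
    have h1 := hSexp a ha
    have h2 := hSexp b hb
    have h3 := hSexp (a * b) (mul_mem ha hb)
    calc a * b = (b * b) * (a * b) * (a * a) := by rw [h1, h2]; group
      _ = b * ((b * a) * (b * a)) * a := by group
      _ = b * a := by
          have : b * a * (b * a) = 1 := by
            have h4 : (a * b)⁻¹ = a * b := inv_eq_of_mul_eq_one_left h3
            have h5 : a⁻¹ = a := inv_eq_of_mul_eq_one_left h1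
            have h6 : b⁻¹ = b := inv_eq_of_mul_eq_one_left h2
            have h7 : b * a = (a * b)⁻¹ := by rw [mul_inv_rev, h5, h6]
            rw [h7, h4]; exact h3
          rw [this]; group
  -- the generator of the kernel
  obtain ⟨z, hzK, hz1, hzall⟩ : ∃ z : L, z ∈ π.ker ∧ z ≠ 1 ∧ ∀ k ∈ π.ker, k = 1 ∨ k = z := by
    obtain ⟨z', hz'⟩ := (Nat.card_eq_two_iff' (1 : ↥π.ker)).mp hK2
    refine ⟨(z' : L), z'.2, ?_, ?_⟩
    · intro h; exact hz'.1 (Subtype.ext h)
    · intro k hk
      by_cases hk1 : k = 1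
      · left; exact hk1
      · right
        have := hz'.2 ⟨k, hk⟩ (fun h => hk1 (congrArg Subtype.val h))
        exact congrArg Subtype.val this
  have hzc : ∀ x : L, z * x = x * z := by
    intro x
    have := hKc hzK
    rw [Subgroup.mem_center_iff] at this
    exact (this x).symm
  have hzz : z * z = 1 := by
    rcases hzall (z * z) (mul_mem hzK hzK) with h | h
    · exact h
    · exfalso; apply hz1
      have : z = z⁻¹ * (z * z) := by group
      rw [this, h]; group
  have hπz : π z = 1 := MonoidHom.mem_ker.mp hzK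
  -- the preimage of S
  set Pt : Subgroup L := (S : Subgroup G).comap π with hPt
  have hmemPt : ∀ x : L, x ∈ Pt ↔ π x ∈ (S : Subgroup G) := fun x => Iff.rfl
  have hzPt : z ∈ Pt := by rw [hmemPt, hπz]; exact one_mem _
  have hidx : Pt.index = (S : Subgroup G).index := Subgroup.index_comap_of_surjective _ hπ
  have hodd : ¬ 2 ∣ Pt.index := by rw [hidx]; exact S.not_dvd_index
  have hcardPt : Nat.card ↥Pt = 16 := by
    have h1 := Pt.index_mul_card
    have h2 := (S : Subgroup G).index_mul_card
    have h3 := Subgroup.card_eq_card_quotient_mul_card_subgroup π.ker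
    have h4 : Nat.card (L ⧸ π.ker) = Nat.card G :=
      Nat.card_congr (QuotientGroup.quotientKerEquivOfSurjective π hπ).toEquiv
    rw [h4, hK2] at h3
    rw [hS8] at h2
    rw [hidx] at h1
    have hpos : 0 < (S : Subgroup G).index := Nat.pos_of_ne_zero (Subgroup.index_ne_zero_of_finite)
    have : (S : Subgroup G).index * Nat.card ↥Pt = (S : Subgroup G).index * 16 := by
      rw [h1, h3, ← h2]; ring
    exact Nat.eq_of_mul_eq_mul_left hpos this
  -- squares and commutators
  have hsq : ∀ x : ↥Pt, x * x = 1 ∨ x * x = ⟨z, hzPt⟩ := by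
    intro x
    have hx : π (x : L) ∈ (S : Subgroup G) := x.2
    have h1 : (x : L) * (x : L) ∈ π.ker := by
      rw [MonoidHom.mem_ker, map_mul]; exact hSexp _ hx
    rcases hzall _ h1 with h | h
    · left; exact Subtype.ext h
    · right; exact Subtype.ext h
  have hcomm : ∀ x y : ↥Pt, x * y = y * x ∨ x * y = (⟨z, hzPt⟩ : ↥Pt) * (y * x) := by
    intro x y
    have hx : π (x : L) ∈ (S : Subgroup G) := x.2
    have hy : π (y : L) ∈ (S : Subgroup G) := y.2
    have h1 : (x : L) * (y : L) * ((y : L) * (x : L))⁻¹ ∈ π.ker := by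
      rw [MonoidHom.mem_ker, map_mul, map_inv, map_mul, map_mul, hScomm _ hx _ hy]
      group
    rcases hzall _ h1 with h | h
    · left; apply Subtype.ext
      show (x : L) * (y : L) = (y : L) * (x : L)
      have : (x : L) * (y : L) = ((x : L) * (y : L) * ((y : L) * (x : L))⁻¹) * ((y : L) * (x : L)) := by
        group
      rw [this, h, one_mul]
    · right; apply Subtype.ext
      show (x : L) * (y : L) = z * ((y : L) * (x : L))
      have : (x : L) * (y : L) = ((x : L) * (y : L) * ((y : L) * (x : L))⁻¹) * ((y : L) * (x : L)) := by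
        group
      rw [this, h]
  have hz1' : (⟨z, hzPt⟩ : ↥Pt) ≠ 1 := fun h => hz1 (congrArg Subtype.val h)
  have hzz' : (⟨z, hzPt⟩ : ↥Pt) * ⟨z, hzPt⟩ = 1 := Subtype.ext hzz
  have hzc' : ∀ x : ↥Pt, (⟨z, hzPt⟩ : ↥Pt) * x = x * ⟨z, hzPt⟩ := fun x => Subtype.ext (hzc x)
  -- Pt is not abelian (transfer)
  have hna : ∃ x y : ↥Pt, x * y ≠ y * x := by
    by_contra hcon
    push Not at hcon
    letI : CommGroup ↥Pt := { (inferInstance : Group ↥Pt) with mul_comm := hcon }
    have key : ∀ (k : ℕ) (g₀ : L), g₀⁻¹ * z ^ k * g₀ ∈ Pt → g₀⁻¹ * z ^ k * g₀ = z ^ k := by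
      intro k g₀ _
      have hzk : ∀ x : L, z ^ k * x = x * z ^ k := fun x =>
        ((show Commute z x from hzc x).pow_left k).eq
      rw [mul_assoc, hzk g₀, ← mul_assoc, inv_mul_cancel, one_mul]
    have h1 := MonoidHom.transfer_eq_pow (MonoidHom.id ↥Pt) z key
    have h2 : MonoidHom.transfer (MonoidHom.id ↥Pt) z = 1 := by
      have hk : commutator L ≤ (MonoidHom.transfer (MonoidHom.id ↥Pt)).ker :=
        Abelianization.commutator_subset_ker _
      rw [hperf] at hk
      exact hk (Subgroup.mem_top z)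
    rw [h2] at h1
    have h3 : z ^ Pt.index = 1 := by
      have := congrArg Subtype.val h1
      simpa using this.symm
    obtain ⟨m, hm⟩ : ∃ m, Pt.index = 2 * m + 1 := by
      obtain ⟨m, hm⟩ := Nat.odd_iff.mpr (Nat.two_dvd_ne_zero.mp hodd)
      exact ⟨m, hm⟩
    rw [hm, pow_succ, pow_mul, pow_two, hzz, one_pow, one_mul] at h3
    exact hz1 h3
  -- the centre of Pt
  obtain ⟨c, hc1, hcz, hcc, hcall⟩ :=
    h9_center_struct hcardPt ⟨z, hzPt⟩ hz1' hzz' hzc' hcomm hsq hna
  -- its image in S is fixed by the normaliser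
  have hr : π (c : L) = 1 := by
    apply hfix S (π (c : L)) c.2
    intro n hn
    obtain ⟨l, rfl⟩ := hπ n
    have hnorm : ∀ y : L, y ∈ Pt → l * y * l⁻¹ ∈ Pt := by
      intro y hy
      rw [hmemPt, map_mul, map_mul, map_inv]
      exact (Subgroup.mem_normalizer_iff.mp hn _).mp hy
    have hnorm' : ∀ y : L, y ∈ Pt → l⁻¹ * y * l ∈ Pt := by
      intro y hy
      rw [hmemPt, map_mul, map_mul, map_inv]
      have := (Subgroup.mem_normalizer_iff.mp (Subgroup.inv_mem _ hn) _).mp hy
      simpa using this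
    have hc'' : ∀ y : ↥Pt, (⟨l * (c : L) * l⁻¹, hnorm _ c.2⟩ : ↥Pt) * y =
        y * ⟨l * (c : L) * l⁻¹, hnorm _ c.2⟩ := by
      intro y
      apply Subtype.ext
      show l * (c : L) * l⁻¹ * (y : L) = (y : L) * (l * (c : L) * l⁻¹)
      have h1 := congrArg Subtype.val (hcc ⟨l⁻¹ * (y : L) * l, hnorm' _ y.2⟩)
      have h1' : (c : L) * (l⁻¹ * (y : L) * l) = (l⁻¹ * (y : L) * l) * (c : L) := h1
      calc l * (c : L) * l⁻¹ * (y : L) = l * ((c : L) * (l⁻¹ * (y : L) * l)) * l⁻¹ := by group
        _ = l * ((l⁻¹ * (y : L) * l) * (c : L)) * l⁻¹ := by rw [h1']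
        _ = (y : L) * (l * (c : L) * l⁻¹) := by group
    rcases hcall _ hc'' with h | h | h | h
    · exfalso; apply hc1
      have h' : l * (c : L) * l⁻¹ = 1 := congrArg Subtype.val h
      apply Subtype.ext
      show (c : L) = 1
      have : (c : L) = l⁻¹ * (l * (c : L) * l⁻¹) * l := by group
      rw [this, h']; group
    · exfalso; apply hcz
      have h' : l * (c : L) * l⁻¹ = z := congrArg Subtype.val h
      apply Subtype.ext
      show (c : L) = z
      have : (c : L) = l⁻¹ * (l * (c : L) * l⁻¹) * l := by group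
      rw [this, h', mul_assoc, hzc l, ← mul_assoc, inv_mul_cancel, one_mul]
    · have h' : l * (c : L) * l⁻¹ = (c : L) := congrArg Subtype.val h
      rw [← map_inv, ← map_mul, ← map_mul, h']
    · have h' : l * (c : L) * l⁻¹ = (c : L) * z := congrArg Subtype.val h
      rw [← map_inv, ← map_mul, ← map_mul, h', map_mul, hπz, mul_one]
  have hcK : (c : L) ∈ π.ker := MonoidHom.mem_ker.mpr hr
  rcases hzall _ hcK with h | h
  · exact hc1 (Subtype.ext h)
  · exact hcz (Subtype.ext h)

/-- **piece (D)** of S3206: no nontrivial perfect central extension by a 2-group. -/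
theorem cover_trivial
    (h8 : ∀ S : Sylow 2 G, Nat.card (S : Subgroup G) = 8 ∧ ∀ s ∈ (S : Subgroup G), s * s = 1)
    (hfix : ∀ S : Sylow 2 G, ∀ s ∈ (S : Subgroup G),
      (∀ n ∈ Subgroup.normalizer ((S : Subgroup G) : Set G), n * s * n⁻¹ = s) → s = 1)
    (L : Type) [Group L] [Finite L] (Z : Subgroup L) [Z.Normal] (hperf : commutator L = ⊤)
    (hZc : Z ≤ Subgroup.center L) (hZ2 : IsPGroup 2 ↥Z) (e : L ⧸ Z ≃* G) : Z = ⊥ := by
  haveI : Fact (Nat.Prime 2) := ⟨Nat.prime_two⟩
  by_contra hZne
  -- the projection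
  set π₀ : L →* G := e.toMonoidHom.comp (QuotientGroup.mk' Z) with hπ₀
  have hπ₀s : Function.Surjective π₀ := by
    intro g
    obtain ⟨q, rfl⟩ := e.surjective g
    obtain ⟨l, rfl⟩ := QuotientGroup.mk_surjective q
    exact ⟨l, rfl⟩
  have hπ₀k : ∀ x : L, π₀ x = 1 ↔ x ∈ Z := by
    intro x
    show e (QuotientGroup.mk x) = 1 ↔ x ∈ Z
    rw [MulEquiv.map_eq_one_iff, QuotientGroup.eq_one_iff]
  -- an index two subgroup of Z
  obtain ⟨n, hn⟩ := (IsPGroup.iff_card.mp hZ2)
  have hn0 : n ≠ 0 := by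
    rintro rfl
    rw [pow_zero] at hn
    exact hZne ((Subgroup.card_eq_one).mp hn)
  obtain ⟨m, rfl⟩ : ∃ m, n = m + 1 := ⟨n - 1, by omega⟩
  obtain ⟨Z₁', hZ₁'⟩ := Sylow.exists_subgroup_card_pow_prime (G := ↥Z) 2 (n := m)
    (by rw [hn]; exact pow_dvd_pow 2 (Nat.le_succ m))
  set Z₁ : Subgroup L := Z₁'.map Z.subtype with hZ₁
  have hZ₁le : Z₁ ≤ Z := by
    rintro _ ⟨x, -, rfl⟩
    exact x.2
  have hZ₁card : Nat.card ↥Z₁ = 2 ^ m := by
    rw [hZ₁, Subgroup.card_map_of_injective Z.subtype_injective, hZ₁']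
  haveI hZ₁n : Z₁.Normal := by
    constructor
    intro x hx g
    have hc := hZc (hZ₁le hx)
    rw [Subgroup.mem_center_iff] at hc
    have : g * x * g⁻¹ = x := by rw [hc g]; group
    rw [this]; exact hx
  -- the quotient
  set π₁ : L ⧸ Z₁ →* G := QuotientGroup.lift Z₁ π₀ (fun x hx => (hπ₀k x).mpr (hZ₁le hx)) with hπ₁
  have hπ₁mk : ∀ x : L, π₁ (QuotientGroup.mk x) = π₀ x := fun x => rfl
  have hπ₁s : Function.Surjective π₁ := by
    intro g
    obtain ⟨l, rfl⟩ := hπ₀s g
    exact ⟨QuotientGroup.mk l, rfl⟩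
  have hperf₁ : commutator (L ⧸ Z₁) = ⊤ := by
    have h1 : (commutator L).map (QuotientGroup.mk' Z₁) = commutator (L ⧸ Z₁) := by
      rw [commutator_def, commutator_def, Subgroup.map_commutator,
        Subgroup.map_top_of_surjective _ (QuotientGroup.mk'_surjective Z₁)]
    rw [← h1, hperf, Subgroup.map_top_of_surjective _ (QuotientGroup.mk'_surjective Z₁)]
  have hKc₁ : π₁.ker ≤ Subgroup.center (L ⧸ Z₁) := by
    intro q hq
    obtain ⟨x, rfl⟩ := QuotientGroup.mk_surjective q
    rw [MonoidHom.mem_ker, hπ₁mk, hπ₀k] at hq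
    have hc := hZc hq
    rw [Subgroup.mem_center_iff] at hc ⊢
    intro q'
    obtain ⟨y, rfl⟩ := QuotientGroup.mk_surjective q'
    rw [← QuotientGroup.mk_mul, ← QuotientGroup.mk_mul, hc y]
  have hK2 : Nat.card ↥π₁.ker = 2 := by
    have h1 := Subgroup.card_eq_card_quotient_mul_card_subgroup π₁.ker
    have h2 : Nat.card ((L ⧸ Z₁) ⧸ π₁.ker) = Nat.card G :=
      Nat.card_congr (QuotientGroup.quotientKerEquivOfSurjective π₁ hπ₁s).toEquiv
    have h3 := Subgroup.card_eq_card_quotient_mul_card_subgroup Z₁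
    have h4 := Subgroup.card_eq_card_quotient_mul_card_subgroup Z
    have h5 : Nat.card (L ⧸ Z) = Nat.card G := Nat.card_congr e.toEquiv
    rw [h2] at h1
    rw [h5, hn] at h4
    rw [hZ₁card, h1] at h3
    have hG : 0 < Nat.card G := Nat.card_pos
    have hpow : 0 < 2 ^ m := pos_of_ne_zero (pow_ne_zero _ (by norm_num))
    have : (Nat.card G * 2 ^ m) * Nat.card ↥π₁.ker = (Nat.card G * 2 ^ m) * 2 := by
      have e1 : Nat.card G * 2 ^ (m + 1) = Nat.card G * Nat.card ↥π₁.ker * 2 ^ m := by
        rw [← h4, h3]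
      rw [pow_succ] at e1
      nlinarith [e1]
    exact Nat.eq_of_mul_eq_mul_left (Nat.mul_pos hG hpow) this
  exact h9_cover_two h8 hfix (L ⧸ Z₁) π₁ hπ₁s hperf₁ hKc₁ hK2

end Cover

end Cfsg.Agent.JR3206
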